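import Mathlib.GroupTheory.Perm.Cycle.Type
import Cfsg.Agent.EqLemmas

/-!
# Permutations of prime order fixing a partition into blocks of equal size

* `exists_fixed_partition` : a sufficient numerical condition
* `decomp_of_fixed` : it is necessary
-/

set_option autoImplicit false

namespace Cfsg.Agent.UniformPartition

open Equiv Finset

variable {r : ℕ} [Fact r.Prime]

theorem cycleType_of_pow_eq_one {X : Type*} [Fintype X] [DecidableEq X] (σ : Perm X) (h : σ ^ r = 1) :
    ∃ u, σ.cycleType = Multiset.replicate u r ∧ σ.support.card = u * r := by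
  have hrp : r.Prime := Fact.out
  by_cases h1 : σ = 1
  · exact ⟨0, by simp [h1], by simp [h1]⟩
  · have ho : orderOf σ = r := orderOf_eq_prime h h1
    obtain ⟨n, hn⟩ := Perm.cycleType_prime_order (σ := σ) (ho ▸ hrp)
    rw [ho] at hn
    exact ⟨n + 1, hn, by rw [← Perm.sum_cycleType, hn, Multiset.sum_replicate, smul_eq_mul]⟩

theorem exists_perm {X : Type*} [Fintype X] [DecidableEq X] (u : ℕ) (h : u * r ≤ Fintype.card X) :
    ∃ σ : Perm X, σ ^ r = 1 ∧ σ.support.card = u * r := by
  have hrp : r.Prime := Fact.out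
  obtain ⟨σ, hσ⟩ := (Equiv.Perm.exists_with_cycleType_iff X (m := Multiset.replicate u r)).2
    ⟨by simpa using h, fun a ha => by rw [Multiset.eq_of_mem_replicate ha]; exact hrp.two_le⟩
  refine ⟨σ, orderOf_dvd_iff_pow_eq_one.1 ?_, by
    rw [← Perm.sum_cycleType, hσ, Multiset.sum_replicate, smul_eq_mul]⟩
  rw [← Perm.lcm_cycleType, Multiset.lcm_dvd, hσ]
  exact fun b hb => (Multiset.eq_of_mem_replicate hb).dvd

theorem exists_split {α : Type*} [DecidableEq α] (q : ℕ) :
    ∀ (S : Finset α) (T : ℕ), T ≤ S.card * q →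
      ∃ t : α → ℕ, (∀ i, t i ≤ q) ∧ ∑ i ∈ S, t i = T := by
  intro S
  induction S using Finset.induction with
  | empty => exact fun T hT => ⟨fun _ => 0, fun _ => Nat.zero_le _, by simp at hT; simp [hT]⟩
  | @insert x S hx ih =>
    intro T hT
    rw [card_insert_of_notMem hx, add_mul, one_mul] at hT
    obtain ⟨t, ht, hs⟩ := ih (T - min T q) (by omega)
    refine ⟨Function.update t x (min T q), fun i => ?_, ?_⟩
    · rcases eq_or_ne i x with rfl | hi
      · simp
      · simp [hi, ht i]
    · rw [sum_insert hx, Function.update_self, sum_congr rfl fun i hi =>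
        Function.update_of_ne (fun h : i = x => hx (h ▸ hi)) _ _, hs]
      omega

/-- The model: `π` on blocks, and on each fixed block a permutation of the given support. -/
theorem exists_model (a b s u : ℕ) (hs : s * r ≤ b) (hlo : a * s ≤ u)
    (hhi : u ≤ a * s + (b - s * r) * (a / r)) :
    ∃ (π : Perm (Fin b)) (σ : Perm (Fin b × Fin a)),
      σ ^ r = 1 ∧ σ.support.card = u * r ∧ ∀ x, (σ x).1 = π x.1 := by
  classical
  obtain ⟨π, hπ, hπs⟩ := exists_perm (r := r) (X := Fin b) s (by simpa using hs)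
  obtain ⟨t, ht, hts⟩ := exists_split (a / r) π.supportᶜ (u - a * s)
    (by rw [card_compl, hπs, Fintype.card_fin]; omega)
  have hex : ∀ j, ∃ p : Perm (Fin a), p ^ r = 1 ∧ p.support.card = t j * r := fun j =>
    exists_perm (t j) (by
      rw [Fintype.card_fin]
      exact (Nat.mul_le_mul_right r (ht j)).trans (Nat.div_mul_le_self a r))
  choose p hp hps using hex
  let g : Fin b × Fin a → Fin b × Fin a := fun x => (π x.1, if π x.1 = x.1 then p x.1 x.2 else x.2)
  have hiter : ∀ (i : ℕ) (x : Fin b × Fin a),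
      g^[i] x = ((π ^ i) x.1, if π x.1 = x.1 then (p x.1 ^ i) x.2 else x.2) := by
    intro i
    induction i with
    | zero => intro x; simp
    | succ i ih =>
      intro x
      rw [Function.iterate_succ_apply, ih]
      by_cases h : π x.1 = x.1
      · simp [g, h, pow_succ, Perm.mul_apply]
      · have h' : ¬ π (π x.1) = π x.1 := fun e => h (π.injective e)
        simp [g, h, h', pow_succ, Perm.mul_apply]
  have hg : ∀ x, g^[r] x = x := fun x => by
    rw [hiter, hπ]
    simp [hp]
  have hr1 : r = (r - 1) + 1 := by have := (Fact.out : r.Prime).pos; omega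
  let σ : Perm (Fin b × Fin a) :=
    { toFun := g
      invFun := g^[r - 1]
      left_inv := fun x => by
        rw [← Function.iterate_succ_apply, Nat.succ_eq_add_one, ← hr1, hg]
      right_inv := fun x => by
        rw [← Function.iterate_succ_apply' g, Nat.succ_eq_add_one, ← hr1, hg] }
  refine ⟨π, σ, Perm.ext fun x => ?_, ?_, fun x => rfl⟩
  · rw [← Perm.iterate_eq_pow]
    exact hg x
  · have hsupp : σ.support = univ.filter fun x => π x.1 ≠ x.1 ∨ p x.1 x.2 ≠ x.2 := by
      ext x
      simp only [Perm.mem_support, mem_filter, mem_univ, true_and]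
      show g x ≠ x ↔ _
      by_cases h : π x.1 = x.1 <;> simp [g, h, Prod.ext_iff]
    have hfib : ∀ j : Fin b, (σ.support.filter fun x => x.1 = j).card =
        if π j = j then t j * r else a := by
      intro j
      have e : (σ.support.filter fun x => x.1 = j) =
          (univ.filter fun y : Fin a => π j ≠ j ∨ p j y ≠ y).image (fun y => (j, y)) := by
        ext ⟨i, y⟩
        simp [hsupp]
        constructor
        · rintro ⟨h, rfl⟩; exact ⟨h, rfl⟩
        · rintro ⟨h, rfl⟩; exact ⟨h, rfl⟩
      rw [e, card_image_of_injective _ fun y y' h => congrArg Prod.snd h]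
      by_cases h : π j = j
      · rw [if_pos h, ← hps j]
        congr 1
        ext y; simp [h]
      · rw [if_neg h, filter_true_of_mem fun y _ => Or.inl h, card_univ, Fintype.card_fin]
    rw [card_eq_sum_card_fiberwise (f := Prod.fst) (t := (univ : Finset (Fin b))) fun x _ => mem_univ _,
      sum_congr rfl fun j _ => hfib j, sum_ite, sum_const, smul_eq_mul, ← sum_mul,
      show univ.filter (fun j => π j = j) = π.supportᶜ by ext j; simp,
      show univ.filter (fun j => ¬ π j = j) = π.support by ext j; simp, hts, hπs]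
    have : s * r * a = a * s * r := by ring
    rw [this, ← add_mul, Nat.sub_add_cancel hlo]

theorem exists_fixed_partition (a b : ℕ) (σ : Perm (Fin (a * b))) (hσ : σ ^ r = 1) {u : ℕ}
    (hu : σ.support.card = u * r) (s : ℕ) (hs : s * r ≤ b) (hlo : a * s ≤ u)
    (hhi : u ≤ a * s + (b - s * r) * (a / r)) :
    ∃ f : Fin (a * b) → Fin b, (∀ j : Fin b, Nat.card {x : Fin (a * b) // f x = j} = a) ∧
      ∃ π : Equiv.Perm (Fin b), ∀ x : Fin (a * b), f (σ x) = π (f x) := by
  classical
  obtain ⟨π, σ₀, h₀, hs₀, hf₀⟩ := exists_model (r := r) a b s u hs hlo hhi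
  let e : Fin b × Fin a ≃ Fin (a * b) := finProdFinEquiv.trans (finCongr (Nat.mul_comm b a))
  set σ₁ := e.permCongr σ₀ with hσ₁
  have hσ₁app : ∀ x, σ₁ x = e (σ₀ (e.symm x)) := fun x => rfl
  have hsupp : σ₁.support = σ₀.support.map e.toEmbedding := by
    ext x
    simp [hσ₁app, ← e.eq_symm_apply]
  have h₁ : σ₁ ^ r = 1 := by
    rw [hσ₁, show e.permCongr σ₀ = e.permCongrHom σ₀ from rfl, ← map_pow, h₀, map_one]
  obtain ⟨u₁, hu₁, hu₁'⟩ := cycleType_of_pow_eq_one σ₁ h₁
  obtain ⟨u₂, hu₂, hu₂'⟩ := cycleType_of_pow_eq_one σ hσ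
  have hr0 := (Fact.out : r.Prime).pos
  have : u₁ = u₂ := Nat.eq_of_mul_eq_mul_right hr0 (by rw [← hu₁', ← hu₂', hsupp, card_map, hs₀, hu])
  obtain ⟨τ, hτ⟩ := isConj_iff.1 (Perm.isConj_iff_cycleType_eq.2 (hu₁.trans (this ▸ hu₂.symm)))
  refine ⟨fun x => (e.symm (τ.symm x)).1, fun j => ?_, π, fun x => ?_⟩
  · refine (Nat.card_congr (((τ.symm.trans e.symm).subtypeEquiv (q := fun y => y.1 = j) fun x => Iff.rfl).trans
      { toFun := fun y => y.1.2, invFun := fun y => ⟨(j, y), rfl⟩,
        left_inv := fun y => Subtype.ext (Prod.ext y.2.symm rfl), right_inv := fun y => rfl })).trans ?_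
    rw [Nat.card_eq_fintype_card, Fintype.card_fin]
  · show (e.symm (τ.symm (σ x))).1 = π (e.symm (τ.symm x)).1
    rw [← hτ, show (τ * σ₁ * τ⁻¹) x = τ (σ₁ (τ.symm x)) from rfl, τ.symm_apply_apply, hσ₁app,
      e.symm_apply_apply, hf₀]

theorem decomp_of_fixed {a b : ℕ} (ha : 0 < a) {σ : Perm (Fin (a * b))} (hσ : σ ^ r = 1)
    {f : Fin (a * b) → Fin b} (hf : ∀ j : Fin b, Nat.card {x : Fin (a * b) // f x = j} = a)
    {π : Perm (Fin b)} (hπ : ∀ x, f (σ x) = π (f x)) {u : ℕ} (hu : σ.support.card = u * r) :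
    ∃ s, s * r ≤ b ∧ a * s ≤ u ∧ u ≤ a * s + (b - s * r) * (a / r) := by
  classical
  have hr0 := (Fact.out : r.Prime).pos
  have hfc : ∀ j : Fin b, (univ.filter fun x => f x = j).card = a := fun j => by
    rw [← Fintype.card_subtype, ← Nat.card_eq_fintype_card]; exact hf j
  have hpow : ∀ (i : ℕ) x, f ((σ ^ i) x) = (π ^ i) (f x) := fun i => by
    induction i with
    | zero => simp
    | succ i ih => intro x; rw [pow_succ, pow_succ, Perm.mul_apply, ih, hπ]; rfl
  have hπr : π ^ r = 1 := Perm.ext fun j => by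
    obtain ⟨x, hx⟩ := card_pos.1 (ha.trans_eq (hfc j).symm)
    rw [mem_filter] at hx
    rw [← hx.2, ← hpow, hσ]
    rfl
  obtain ⟨s, -, hs⟩ := cycleType_of_pow_eq_one π hπr
  refine ⟨s, by rw [← hs]; simpa using card_le_univ π.support, ?_⟩
  have hmoved : ∀ j, π j ≠ j → (σ.support.filter fun x => f x = j).card = a := by
    intro j hj
    conv_rhs => rw [← hfc j]
    congr 1
    ext x
    simp only [mem_filter, Perm.mem_support, mem_univ, true_and, and_iff_right_iff_imp]
    intro hx h
    exact hj (by rw [← hx, ← hπ, h])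
  have hfixed : ∀ j, π j = j → ∃ t ≤ a / r, (σ.support.filter fun x => f x = j).card = t * r := by
    intro j hj
    have hinv : ∀ x, f (σ x) = j ↔ f x = j := fun x => by
      rw [hπ]; conv_lhs => rhs; rw [← hj]
      exact π.injective.eq_iff
    set τ : Perm {x // f x = j} := σ.subtypePerm hinv with hτ
    have hτr : τ ^ r = 1 := by
      ext x
      rw [hτ, Perm.subtypePerm_pow]
      simp [hσ]
    obtain ⟨t, -, ht⟩ := cycleType_of_pow_eq_one τ hτr
    have hmap : τ.support.map (Function.Embedding.subtype _) = σ.support.filter fun x => f x = j := by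
      ext x
      simp [hτ, Subtype.ext_iff, and_comm]
    refine ⟨t, (Nat.le_div_iff_mul_le hr0).2 ?_, by rw [← hmap, card_map, ht]⟩
    calc t * r = τ.support.card := ht.symm
      _ ≤ Fintype.card {x // f x = j} := card_le_univ _
      _ = a := (Fintype.card_subtype _).trans (hfc j)
  choose! t ht htc using hfixed
  have hsum : u * r = (a * s + ∑ j ∈ π.supportᶜ, t j) * r := by
    rw [← hu, card_eq_sum_card_fiberwise (f := f) (t := (univ : Finset (Fin b))) fun x _ => mem_univ _,
      ← sum_add_sum_compl π.support, sum_congr rfl fun j hj => hmoved j (Perm.mem_support.1 hj),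
      sum_congr rfl fun j hj => htc j (by simpa using hj), sum_const, hs, smul_eq_mul, add_mul,
      sum_mul]
    ring
  have hu' := Nat.eq_of_mul_eq_mul_right hr0 hsum
  have hle : ∑ j ∈ π.supportᶜ, t j ≤ (b - s * r) * (a / r) := by
    refine (sum_le_card_nsmul _ _ (a / r) fun j hj => ht j (by simpa using hj)).trans ?_
    rw [card_compl, hs, Fintype.card_fin, smul_eq_mul]
  omega

end Cfsg.Agent.UniformPartition
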