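/-
Stabilisers of uniform partitions in symmetric and alternating groups.
Main results: `W` (stabiliser of the fibres of `Fin b × Fin a → Fin b`), `isCoatom_W`,
`isCoatom_W_alt` (for `b * a ≠ 8`), `exists_transport` (a uniform labelling is this partition up to a bijection).
-/
import Cfsg.Agent.EqLemmas

set_option autoImplicit false

namespace Cfsg.Agent.Partition

open MulAction
open scoped Pointwise

variable {a b : ℕ}

/-- The stabiliser of the partition of `Fin b × Fin a` by first coordinates. -/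
def W (b a : ℕ) : Subgroup (Equiv.Perm (Fin b × Fin a)) where
  carrier := {g | ∀ x y, x.1 = y.1 ↔ (g x).1 = (g y).1}
  mul_mem' := fun {g h} hg hh (x y : Fin b × Fin a) => (hh x y).trans (hg (h x) (h y))
  one_mem' := fun (_ _ : Fin b × Fin a) => Iff.rfl
  inv_mem' := fun {g} hg (x y : Fin b × Fin a) => by
    show x.1 = y.1 ↔ (g.symm x).1 = (g.symm y).1
    rw [hg (g.symm x) (g.symm y), g.apply_symm_apply, g.apply_symm_apply]

theorem mem_W {g : Equiv.Perm (Fin b × Fin a)} : g ∈ W b a ↔ ∀ x y, x.1 = y.1 ↔ (g x).1 = (g y).1 := Iff.rfl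

/-- Permute the fibres. -/
def lift (σ : Equiv.Perm (Fin b)) : Equiv.Perm (Fin b × Fin a) := Equiv.prodCongr σ (Equiv.refl _)

theorem lift_apply (σ : Equiv.Perm (Fin b)) (x : Fin b × Fin a) : lift σ x = (σ x.1, x.2) := rfl

theorem lift_mem (σ : Equiv.Perm (Fin b)) : (lift σ : Equiv.Perm (Fin b × Fin a)) ∈ W b a := fun x y => by
  simp [lift_apply]

/-- A transposition within a fibre. -/
def sw (i : Fin b) (u v : Fin a) : Equiv.Perm (Fin b × Fin a) := Equiv.swap (i, u) (i, v)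

theorem sw_fst (i : Fin b) (u v : Fin a) (x : Fin b × Fin a) : (sw i u v x).1 = x.1 := by
  rw [sw, Equiv.swap_apply_def]; split_ifs with h1 h2 <;> simp_all

theorem sw_mem (i : Fin b) (u v : Fin a) : sw i u v ∈ W b a := fun x y => by rw [sw_fst, sw_fst]

theorem sw_fix (i : Fin b) (u v : Fin a) (x : Fin b × Fin a) (h : x.1 ≠ i ∨ (x.2 ≠ u ∧ x.2 ≠ v)) :
    sw i u v x = x := by
  refine Equiv.swap_apply_of_ne_of_ne ?_ ?_ <;> rintro rfl <;> simp at h

theorem sign_sw (i : Fin b) {u v : Fin a} (h : u ≠ v) : Equiv.Perm.sign (sw i u v) = -1 :=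
  Equiv.Perm.sign_swap fun e => h (Prod.ext_iff.1 e).2

theorem exists_ne_fin {n : ℕ} (hn : 2 ≤ n) (u : Fin n) : ∃ v, v ≠ u :=
  haveI : Nontrivial (Fin n) := Fin.nontrivial_iff_two_le.2 hn
  exists_ne u

theorem exists_ne_ne_fin {n : ℕ} (hn : 3 ≤ n) (u v : Fin n) : ∃ w, w ≠ u ∧ w ≠ v := by
  have : (({u, v} : Finset (Fin n))ᶜ).Nonempty := by
    rw [← Finset.card_pos, Finset.card_compl, Fintype.card_fin]
    have := Finset.card_insert_le u ({v} : Finset (Fin n))
    simp at this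
    omega
  obtain ⟨w, hw⟩ := this
  simp only [Finset.mem_compl, Finset.mem_insert, Finset.mem_singleton, not_or] at hw
  exact ⟨w, hw⟩

/-- A transposition in a fibre other than `i`. -/
theorem exists_sw_off (ha : 2 ≤ a) (hb : 2 ≤ b) (i : Fin b) :
    ∃ s : Equiv.Perm (Fin b × Fin a), s ∈ W b a ∧ Equiv.Perm.sign s = -1 ∧ (∀ x, (s x).1 = x.1) ∧
      (∀ x, x.1 = i → s x = x) := by
  obtain ⟨j, hj⟩ := exists_ne_fin hb i
  exact ⟨sw j ⟨0, by omega⟩ ⟨1, by omega⟩, sw_mem _ _ _, sign_sw _ (by simp), sw_fst _ _ _,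
    fun x hx => sw_fix _ _ _ _ (Or.inl (hx ▸ hj.symm))⟩

/-- Overgroups of the part of `W` inside a subgroup containing the alternating group are primitive. -/
theorem isPreprimitive_of_W_le (ha : 2 ≤ a) (hb : 2 ≤ b) (hab : ¬ (a = 2 ∧ b = 2))
    (K : Subgroup (Equiv.Perm (Fin b × Fin a))) (hW : W b a ⊓ alternatingGroup (Fin b × Fin a) ≤ K)
    (hK : ¬ K ≤ W b a) : IsPreprimitive K (Fin b × Fin a) := by
  classical
  -- an element of `W`, corrected to be even by a transposition `s`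
  have inK : ∀ (w s : Equiv.Perm (Fin b × Fin a)), w ∈ W b a → s ∈ W b a → Equiv.Perm.sign s = -1 →
      w ∈ K ∨ w * s ∈ K := by
    intro w s hw hs hsign
    rcases Int.units_eq_one_or (Equiv.Perm.sign w) with h | h
    · exact Or.inl (hW ⟨hw, h⟩)
    · exact Or.inr (hW ⟨(W b a).mul_mem hw hs, by simp [Equiv.Perm.mem_alternatingGroup, h, hsign]⟩)
  -- every point can be sent to every other one
  have move : ∀ x y : Fin b × Fin a, ∃ g ∈ K, g x = y := by
    intro x y
    obtain ⟨s, hs, hsign, -, hsfix⟩ := exists_sw_off ha hb x.1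
    set w := sw y.1 x.2 y.2 * lift (Equiv.swap x.1 y.1) with hw
    have hwx : w x = y := by simp [hw, lift_apply, sw]
    rcases inK w s ((W b a).mul_mem (sw_mem _ _ _) (lift_mem _)) hs hsign with h | h
    · exact ⟨w, h, hwx⟩
    · exact ⟨w * s, h, by rw [Equiv.Perm.mul_apply, hsfix x rfl, hwx]⟩
  haveI : IsPretransitive K (Fin b × Fin a) := ⟨fun x y => by
    obtain ⟨g, hg, hgx⟩ := move x y
    exact ⟨⟨g, hg⟩, hgx⟩⟩
  let i₀ : Fin b := ⟨0, by omega⟩
  let u₀ : Fin a := ⟨0, by omega⟩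
  let x : Fin b × Fin a := (i₀, u₀)
  refine IsPreprimitive.of_isTrivialBlock_base x fun {B} hx hB => ?_
  rw [IsTrivialBlock, or_iff_not_imp_left]
  intro hns
  -- elements of `K` fixing `x` preserve `B`
  have pres : ∀ g ∈ K, g x = x → ∀ y ∈ B, g y ∈ B := by
    intro g hg hgx y hy
    have := hB.smul_eq_of_mem (g := (⟨g, hg⟩ : K)) hx (by show g x ∈ B; rw [hgx]; exact hx)
    rw [← this]
    exact ⟨y, hy, rfl⟩
  obtain ⟨y, hy, hyx⟩ := (Set.not_subsingleton_iff.1 hns).exists_ne x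
  by_cases hsub : ∀ y ∈ B, y.1 = i₀
  · -- the fibre is a block
    exfalso
    apply hK
    have hfib : B = {z | z.1 = i₀} := by
      refine Set.Subset.antisymm hsub fun z hz => ?_
      rcases eq_or_ne z x with rfl | hzx
      · exact hx
      rcases eq_or_ne z y with rfl | hzy
      · exact hy
      obtain ⟨s, hs, hsign, -, hsfix⟩ := exists_sw_off ha hb i₀
      have hy0 := hsub y hy
      have hy' : y = (i₀, y.2) := Prod.ext hy0 rfl
      have hz' : z = (i₀, z.2) := Prod.ext hz rfl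
      have hyu : y.2 ≠ u₀ := fun h => hyx (Prod.ext hy0 h)
      have hzu : z.2 ≠ u₀ := fun h => hzx (Prod.ext hz h)
      have hne : y.2 ≠ z.2 := fun h => hzy (Prod.ext (hz.trans hy0.symm) h.symm)
      have hmem : sw i₀ y.2 z.2 * s ∈ K := hW ⟨(W b a).mul_mem (sw_mem _ _ _) hs, by
        simp [Equiv.Perm.mem_alternatingGroup, sign_sw _ hne, hsign]⟩
      have hgx : (sw i₀ y.2 z.2 * s) x = x := by
        rw [Equiv.Perm.mul_apply, hsfix x rfl, sw_fix _ _ _ _ (Or.inr ⟨hyu.symm, hzu.symm⟩)]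
      have := pres _ hmem hgx y hy
      rw [Equiv.Perm.mul_apply, hsfix y hy0] at this
      have e : sw i₀ y.2 z.2 y = z := by
        conv_lhs => arg 2; rw [hy']
        rw [sw, Equiv.swap_apply_left, ← hz']
      rwa [e] at this
    intro g hg
    suffices h : ∀ p q : Fin b × Fin a, p.1 = q.1 → (g p).1 = (g q).1 ∧ (g⁻¹ p).1 = (g⁻¹ q).1 from
      fun p q => ⟨fun hpq => (h p q hpq).1, fun hpq => by simpa using (h _ _ hpq).2⟩
    have main : ∀ g ∈ K, ∀ p q : Fin b × Fin a, p.1 = q.1 → (g p).1 = (g q).1 := by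
      intro g hg p q hpq
      -- a translate of the fibre through `x` by an element of `W ∩ K`
      obtain ⟨s, hs, hsign, -, hsfix⟩ := exists_sw_off ha hb i₀
      obtain ⟨t₁, ht₁, ht₁p⟩ : ∃ w, w ∈ W b a ∧ w x = p :=
        ⟨sw p.1 u₀ p.2 * lift (Equiv.swap i₀ p.1), (W b a).mul_mem (sw_mem _ _ _) (lift_mem _), by
          simp [lift_apply, sw, x]⟩
      obtain ⟨t₂, ht₂, ht₂p⟩ : ∃ w, w ∈ W b a ∧ w x = g p :=
        ⟨sw (g p).1 u₀ (g p).2 * lift (Equiv.swap i₀ (g p).1), (W b a).mul_mem (sw_mem _ _ _) (lift_mem _), by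
          simp [lift_apply, sw, x]⟩
      obtain ⟨k₁, hk₁, hk₁W, hk₁x⟩ : ∃ w, w ∈ K ∧ w ∈ W b a ∧ w x = p := by
        rcases inK t₁ s ht₁ hs hsign with h | h
        · exact ⟨t₁, h, ht₁, ht₁p⟩
        · exact ⟨_, h, (W b a).mul_mem ht₁ hs, by rw [Equiv.Perm.mul_apply, hsfix x rfl, ht₁p]⟩
      obtain ⟨k₂, hk₂, hk₂W, hk₂x⟩ : ∃ w, w ∈ K ∧ w ∈ W b a ∧ w x = g p := by
        rcases inK t₂ s ht₂ hs hsign with h | h
        · exact ⟨t₂, h, ht₂, ht₂p⟩
        · exact ⟨_, h, (W b a).mul_mem ht₂ hs, by rw [Equiv.Perm.mul_apply, hsfix x rfl, ht₂p]⟩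
      have hm : k₂⁻¹ * g * k₁ ∈ K := K.mul_mem (K.mul_mem (K.inv_mem hk₂) hg) hk₁
      have hmx : (k₂⁻¹ * g * k₁) x = x := by
        simp [Equiv.Perm.mul_apply, hk₁x, ← hk₂x]
      have hq : k₁⁻¹ q ∈ B := by
        rw [hfib]
        show (k₁⁻¹ q).1 = i₀
        have := (((W b a).inv_mem hk₁W) p q).1 hpq
        rw [← this, ← hk₁x]
        simp [x]
      have := pres _ hm hmx _ hq
      rw [hfib] at this
      simp only [Equiv.Perm.mul_apply, Equiv.Perm.coe_inv, Equiv.apply_symm_apply, Set.mem_ofPred_eq] at this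
      have h2 := (hk₂W (k₂.symm (g q)) x).1 this
      rw [Equiv.apply_symm_apply, hk₂x] at h2
      exact h2.symm
    exact fun p q hpq => ⟨main g hg p q hpq, main g⁻¹ (K.inv_mem hg) p q hpq⟩
  push Not at hsub
  obtain ⟨y, hy, hy0⟩ := hsub
  -- the whole fibre of `y`
  have hfy : ∀ z : Fin b × Fin a, z.1 = y.1 → z ∈ B := by
    intro z hz
    rcases eq_or_ne z y with rfl | hzy
    · exact hy
    have hne : y.2 ≠ z.2 := fun h => hzy (Prod.ext hz h.symm)
    obtain ⟨s, hs, hsign, hsy, hsx⟩ : ∃ s : Equiv.Perm (Fin b × Fin a), s ∈ W b a ∧ Equiv.Perm.sign s = -1 ∧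
        s y = y ∧ s x = x := by
      by_cases hb3 : 3 ≤ b
      · obtain ⟨j, hj1, hj2⟩ := exists_ne_ne_fin hb3 i₀ y.1
        exact ⟨sw j ⟨0, by omega⟩ ⟨1, by omega⟩, sw_mem _ _ _, sign_sw _ (by simp),
          sw_fix _ _ _ _ (Or.inl hj2.symm), sw_fix _ _ _ _ (Or.inl hj1.symm)⟩
      · have ha3 : 3 ≤ a := by omega
        obtain ⟨v, hv, -⟩ := exists_ne_ne_fin ha3 u₀ u₀
        obtain ⟨w, hw, hwv⟩ := exists_ne_ne_fin ha3 u₀ v
        exact ⟨sw i₀ v w, sw_mem _ _ _, sign_sw _ hwv.symm, sw_fix _ _ _ _ (Or.inl hy0),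
          sw_fix _ _ _ _ (Or.inr ⟨hv.symm, hw.symm⟩)⟩
    have hmem : sw y.1 y.2 z.2 * s ∈ K := hW ⟨(W b a).mul_mem (sw_mem _ _ _) hs, by
      simp [Equiv.Perm.mem_alternatingGroup, sign_sw _ hne, hsign]⟩
    have := pres _ hmem (by rw [Equiv.Perm.mul_apply, hsx, sw_fix _ _ _ _ (Or.inl (Ne.symm hy0))]) y hy
    rw [Equiv.Perm.mul_apply, hsy, show sw y.1 y.2 z.2 y = (y.1, z.2) from Equiv.swap_apply_left _ _,
      show (y.1, z.2) = z from Prod.ext hz.symm rfl] at this
    exact this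
  -- another point of the fibre of `x`
  have hfx : ∀ v : Fin a, (i₀, v) ∈ B := by
    intro v
    obtain ⟨k, hk, hkx⟩ := move x y
    by_cases hv : v = u₀
    · exact hv ▸ hx
    -- a permutation fixing a point of the fibre of `y` and moving `x` to `(i₀, v)`
    obtain ⟨c, hc⟩ : ∃ c : Fin b × Fin a, c.1 = y.1 := ⟨y, rfl⟩
    obtain ⟨s, hs, hsign, hsx, z, hz, hsz⟩ : ∃ s : Equiv.Perm (Fin b × Fin a), s ∈ W b a ∧
        Equiv.Perm.sign s = -1 ∧ s x = x ∧ ∃ z, z.1 = y.1 ∧ s z = z := by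
      by_cases hb3 : 3 ≤ b
      · obtain ⟨j, hj1, hj2⟩ := exists_ne_ne_fin hb3 i₀ y.1
        exact ⟨sw j ⟨0, by omega⟩ ⟨1, by omega⟩, sw_mem _ _ _, sign_sw _ (by simp),
          sw_fix _ _ _ _ (Or.inl hj1.symm), y, rfl, sw_fix _ _ _ _ (Or.inl hj2.symm)⟩
      · have ha3 : 3 ≤ a := by omega
        exact ⟨sw y.1 ⟨0, by omega⟩ ⟨1, by omega⟩, sw_mem _ _ _, sign_sw _ (by simp),
          sw_fix _ _ _ _ (Or.inl (Ne.symm hy0)), (y.1, ⟨2, by omega⟩), rfl,
          sw_fix _ _ _ _ (Or.inr ⟨by simp, by simp⟩)⟩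
    have hmem : sw i₀ u₀ v * s ∈ K := hW ⟨(W b a).mul_mem (sw_mem _ _ _) hs, by
      simp [Equiv.Perm.mem_alternatingGroup, sign_sw _ (Ne.symm hv), hsign]⟩
    have hgz : (sw i₀ u₀ v * s) z = z := by
      rw [Equiv.Perm.mul_apply, hsz, sw_fix _ _ _ _ (Or.inl (hz ▸ hy0))]
    have hgB := hB.smul_eq_of_mem (g := (⟨_, hmem⟩ : K)) (hfy z hz) (by
      show (sw i₀ u₀ v * s) z ∈ B
      rw [hgz]; exact hfy z hz)
    rw [← hgB]
    refine ⟨x, hx, ?_⟩
    show (sw i₀ u₀ v * s) x = (i₀, v)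
    rw [Equiv.Perm.mul_apply, hsx]
    exact Equiv.swap_apply_left _ _
  refine Set.eq_univ_of_forall fun z => ?_
  rcases eq_or_ne z.1 i₀ with hz | hz
  · have := hfx z.2
    rwa [show (i₀, z.2) = z from Prod.ext hz.symm rfl] at this
  obtain ⟨v, hv⟩ := exists_ne_fin ha u₀
  set w : Equiv.Perm (Fin b × Fin a) := lift (Equiv.swap y.1 z.1) with hw
  have hwx : ∀ p : Fin b × Fin a, p.1 = i₀ → w p = p := fun p hp => by
    rw [hw, lift_apply]
    exact Prod.ext (by rw [hp, Equiv.swap_apply_of_ne_of_ne (Ne.symm hy0) hz.symm]) rfl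
  have hwy : w (y.1, z.2) = z := by simp [hw, lift_apply]
  obtain ⟨s, hs, hsign, hsfst, hsfix⟩ := exists_sw_off ha hb i₀
  rcases inK w s (lift_mem _) hs hsign with h | h
  · exact hwy ▸ pres w h (hwx x rfl) _ (hfy (y.1, z.2) rfl)
  · have hsy : (s.symm (y.1, z.2)).1 = y.1 := by
      have := hsfst (s.symm (y.1, z.2))
      rw [Equiv.apply_symm_apply] at this
      exact this.symm
    have := pres _ h (by rw [Equiv.Perm.mul_apply, hsfix x rfl, hwx x rfl]) _ (hfy _ hsy)
    rwa [Equiv.Perm.mul_apply, Equiv.apply_symm_apply, hwy] at this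

theorem W_ne_top (ha : 2 ≤ a) (hb : 2 ≤ b) : W b a ≠ ⊤ := by
  intro h
  have h0 : (⟨0, by omega⟩ : Fin b) ≠ ⟨1, by omega⟩ := by simp
  have hmem : Equiv.swap ((⟨0, by omega⟩, ⟨0, by omega⟩) : Fin b × Fin a) (⟨1, by omega⟩, ⟨0, by omega⟩) ∈ W b a :=
    h ▸ Subgroup.mem_top _
  have := (hmem (⟨0, by omega⟩, ⟨0, by omega⟩) (⟨0, by omega⟩, ⟨1, by omega⟩)).1 rfl
  rw [Equiv.swap_apply_left, Equiv.swap_apply_of_ne_of_ne (by simp) (by simp)] at this
  exact h0 this.symm

theorem isCoatom_W_two_two : IsCoatom (W 2 2) := by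
  classical
  refine ⟨W_ne_top le_rfl le_rfl, fun K hK => ?_⟩
  have hW : Nat.card (W 2 2) = 8 := by
    rw [Nat.card_eq_fintype_card,
      Fintype.card_of_subtype (Finset.univ.filter fun g : Equiv.Perm (Fin 2 × Fin 2) =>
        ∀ x y, x.1 = y.1 ↔ (g x).1 = (g y).1) (fun g => by simp [mem_W])]
    decide
  have h1 := Subgroup.card_dvd_of_le hK.le
  have h2 : Nat.card K ∣ 24 := by
    have := Subgroup.card_subgroup_dvd_card K
    rwa [Nat.card_perm, Nat.card_eq_fintype_card (α := Fin 2 × Fin 2)] at this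
  rw [hW] at h1
  have h3 : Nat.card K ≠ 8 := fun h => hK.ne (Subgroup.eq_of_le_of_card_ge hK.le (by omega))
  have h4 : Nat.card K ≤ 24 := Nat.le_of_dvd (by norm_num) h2
  have h5 : Nat.card K = 24 := by
    interval_cases h : Nat.card K <;> omega
  refine Subgroup.eq_top_of_card_eq _ (h5.trans ?_)
  rw [Nat.card_perm, Nat.card_eq_fintype_card (α := Fin 2 × Fin 2)]
  rfl

/-- The stabiliser of a uniform partition is a maximal subgroup of the symmetric group. -/
theorem isCoatom_W (ha : 2 ≤ a) (hb : 2 ≤ b) : IsCoatom (W b a) := by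
  by_cases h22 : a = 2 ∧ b = 2
  · obtain ⟨rfl, rfl⟩ := h22
    exact isCoatom_W_two_two
  refine ⟨W_ne_top ha hb, fun K hK => ?_⟩
  have hprim := isPreprimitive_of_W_le ha hb h22 K (inf_le_left.trans hK.le) (not_le_of_gt hK)
  let i : Fin b := ⟨0, by omega⟩
  have hne : ((i, ⟨0, by omega⟩) : Fin b × Fin a) ≠ (i, ⟨1, by omega⟩) := by simp
  exact Equiv.Perm.subgroup_eq_top_of_isPreprimitive_of_isSwap_mem hprim _
    ⟨_, _, hne, rfl⟩ (hK.le (sw_mem i ⟨0, by omega⟩ ⟨1, by omega⟩))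


theorem exists_odd_not (ha : 2 ≤ a) (hb : 2 ≤ b) :
    ∃ g : Equiv.Perm (Fin b × Fin a), g ∈ alternatingGroup (Fin b × Fin a) ∧ g ∉ W b a := by
  have hne : ((⟨0, by omega⟩, ⟨0, by omega⟩) : Fin b × Fin a) ≠ (⟨1, by omega⟩, ⟨0, by omega⟩) := by simp
  by_cases h3 : 3 ≤ a
  · refine ⟨Equiv.swap ((⟨0, by omega⟩, ⟨0, by omega⟩) : Fin b × Fin a) (⟨1, by omega⟩, ⟨0, by omega⟩) *
      sw ⟨1, by omega⟩ ⟨1, by omega⟩ ⟨2, by omega⟩, ?_, ?_⟩
    · simp [Equiv.Perm.mem_alternatingGroup, Equiv.Perm.sign_swap hne, sign_sw]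
    · intro hmem
      have h1 : Equiv.swap ((⟨0, by omega⟩, ⟨0, by omega⟩) : Fin b × Fin a) (⟨1, by omega⟩, ⟨0, by omega⟩) ∈ W b a :=
        ((W b a).mul_mem_cancel_right (sw_mem _ _ _)).1 hmem
      have := (h1 (⟨0, by omega⟩, ⟨0, by omega⟩) (⟨0, by omega⟩, ⟨1, by omega⟩)).1 rfl
      rw [Equiv.swap_apply_left, Equiv.swap_apply_of_ne_of_ne (by simp) (by simp)] at this
      simp at this
  · refine ⟨Equiv.swap ((⟨0, by omega⟩, ⟨0, by omega⟩) : Fin b × Fin a) (⟨1, by omega⟩, ⟨0, by omega⟩) *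
      sw ⟨0, by omega⟩ ⟨0, by omega⟩ ⟨1, by omega⟩, ?_, ?_⟩
    · simp [Equiv.Perm.mem_alternatingGroup, Equiv.Perm.sign_swap hne, sign_sw]
    · intro hmem
      have h1 : Equiv.swap ((⟨0, by omega⟩, ⟨0, by omega⟩) : Fin b × Fin a) (⟨1, by omega⟩, ⟨0, by omega⟩) ∈ W b a :=
        ((W b a).mul_mem_cancel_right (sw_mem _ _ _)).1 hmem
      have := (h1 (⟨0, by omega⟩, ⟨0, by omega⟩) (⟨0, by omega⟩, ⟨1, by omega⟩)).1 rfl
      rw [Equiv.swap_apply_left, Equiv.swap_apply_of_ne_of_ne (by simp) (by simp)] at this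
      simp at this

theorem card_inf_alt (b a n : ℕ)
    (h : ((Finset.univ : Finset (Equiv.Perm (Fin b × Fin a))).filter fun g =>
      (∀ x y, x.1 = y.1 ↔ (g x).1 = (g y).1) ∧ Equiv.Perm.sign g = 1).card = n) :
    Nat.card (W b a ⊓ alternatingGroup (Fin b × Fin a) : Subgroup _) = n := by
  classical
  rw [Nat.card_eq_fintype_card, ← h]
  exact Fintype.card_of_subtype _ fun g => by
    simp [mem_W, Subgroup.mem_inf, Equiv.Perm.mem_alternatingGroup]

set_option maxRecDepth 4000 in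
theorem le_W_or_alt_le_small (hsmall : (b = 2 ∧ a = 2) ∨ (b = 3 ∧ a = 2))
    (K : Subgroup (Equiv.Perm (Fin b × Fin a))) (hW : W b a ⊓ alternatingGroup (Fin b × Fin a) ≤ K)
    (hK : K ≤ alternatingGroup (Fin b × Fin a)) :
    K ≤ W b a ∨ alternatingGroup (Fin b × Fin a) ≤ K := by
  classical
  have hA : (2 : ℕ) * Nat.card (alternatingGroup (Fin b × Fin a)) = (b * a).factorial := by
    haveI : Nontrivial (Fin b × Fin a) := by
      rw [← Fintype.one_lt_card_iff_nontrivial]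
      rcases hsmall with ⟨rfl, rfl⟩ | ⟨rfl, rfl⟩ <;> simp
    rw [two_mul_nat_card_alternatingGroup, Nat.card_perm, Nat.card_eq_fintype_card, Fintype.card_prod,
      Fintype.card_fin, Fintype.card_fin]
  have heq : Nat.card K = Nat.card (W b a ⊓ alternatingGroup (Fin b × Fin a) : Subgroup _) → K ≤ W b a := by
    intro h
    rw [← Subgroup.eq_of_le_of_card_ge hW h.le]
    exact inf_le_left
  have htop : Nat.card (alternatingGroup (Fin b × Fin a)) ≤ Nat.card K →
      alternatingGroup (Fin b × Fin a) ≤ K := fun h => (Subgroup.eq_of_le_of_card_ge hK h).ge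
  have d1 := Subgroup.card_dvd_of_le hW
  have d2 := Subgroup.card_dvd_of_le hK
  rcases hsmall with ⟨rfl, rfl⟩ | ⟨rfl, rfl⟩
  · have hc := card_inf_alt 2 2 4 (by decide)
    rw [show ((2 : ℕ) * 2).factorial = 24 from rfl] at hA
    rw [hc] at d1 heq
    have h12 : Nat.card (alternatingGroup (Fin 2 × Fin 2)) = 12 := by omega
    rw [h12] at d2 htop
    have := Nat.le_of_dvd (by norm_num) d2
    interval_cases hk : Nat.card K <;> first | omega | exact Or.inl (heq rfl) | exact Or.inr (htop (by omega))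
  · have hc := card_inf_alt 3 2 24 (by decide)
    rw [show ((3 : ℕ) * 2).factorial = 720 from rfl] at hA
    rw [hc] at d1 heq
    have h360 : Nat.card (alternatingGroup (Fin 3 × Fin 2)) = 360 := by omega
    rw [h360] at d2 htop
    obtain ⟨k, hk⟩ := d1
    rw [hk] at d2
    have hk15 : k ∣ 15 := (Nat.mul_dvd_mul_iff_left (by norm_num : 0 < 24)).1 d2
    by_cases hk15' : k = 15
    · exact Or.inr (htop (by omega))
    by_cases hk1 : k = 1
    · exact Or.inl (heq (by omega))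
    -- index at most 5 in a simple group of order 360
    exfalso
    set K' := K.subgroupOf (alternatingGroup (Fin 3 × Fin 2)) with hK'
    have hcard : Nat.card K' = 24 * k := by
      rw [← hk]; exact Nat.card_congr (Subgroup.subgroupOfEquivOfLe hK).toEquiv
    have hidx : K'.index ≤ 5 := by
      have h := K'.index_mul_card
      rw [hcard, h360] at h
      have : k = 3 ∨ k = 5 := by
        have := Nat.le_of_dvd (by norm_num) hk15
        interval_cases k <;> simp_all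
      rcases this with rfl | rfl <;> omega
    haveI : IsSimpleGroup (alternatingGroup (Fin 3 × Fin 2)) := alternatingGroup.isSimpleGroup (by simp)
    have hcore : K'.normalCore = ⊥ := by
      refine (IsSimpleGroup.eq_bot_or_eq_top_of_normal (H := K'.normalCore) inferInstance).resolve_right fun h => ?_
      have : K' = ⊤ := top_le_iff.1 (h ▸ K'.normalCore_le)
      rw [this, Subgroup.card_top, h360] at hcard
      omega
    rw [Subgroup.normalCore_eq_ker, MonoidHom.ker_eq_bot_iff] at hcore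
    have := Nat.card_le_card_of_injective _ hcore
    rw [Nat.card_perm, ← Subgroup.index_eq_card, h360] at this
    have := this.trans (Nat.factorial_le hidx)
    norm_num [Nat.factorial] at this

theorem mk_snd_two {m : ℕ} (x : Fin m × Fin 2) : (x.2 = 0 ∨ x.2 = 1) := by
  have := x.2
  rcases x with ⟨i, j⟩
  fin_cases j <;> simp

/-- For fibres of size two and at least five fibres a proper overgroup contains a 3-cycle. -/
theorem exists_threeCycle_pairs (hb : 5 ≤ b) (K : Subgroup (Equiv.Perm (Fin b × Fin 2)))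
    (hW : W b 2 ⊓ alternatingGroup (Fin b × Fin 2) ≤ K) (hK : ¬ K ≤ W b 2) :
    ∃ t ∈ K, t.IsThreeCycle := by
  classical
  obtain ⟨k, hk, hkW⟩ := SetLike.not_le_iff_exists.1 hK
  obtain ⟨i, hi⟩ : ∃ i, (k (i, 0)).1 ≠ (k (i, 1)).1 := by
    by_contra h
    push Not at h
    apply hkW
    have h1 : ∀ x y : Fin b × Fin 2, x.1 = y.1 → (k x).1 = (k y).1 := by
      rintro ⟨x, u⟩ ⟨y, v⟩ (rfl : x = y)
      fin_cases u <;> fin_cases v <;> simp [h x]
    -- the induced map on fibres is onto, hence injective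
    let φ : Fin b → Fin b := fun j => (k (j, 0)).1
    have hsurj : Function.Surjective φ := fun j => ⟨(k.symm (j, 0)).1, by
      have := h1 ((k.symm (j, 0)).1, 0) (k.symm (j, 0)) rfl
      rw [Equiv.apply_symm_apply] at this
      exact this⟩
    intro x y
    refine ⟨h1 x y, fun hxy => (Finite.injective_iff_surjective.2 hsurj) ?_⟩
    show (k (x.1, 0)).1 = (k (y.1, 0)).1
    rw [h1 (x.1, 0) x rfl, h1 (y.1, 0) y rfl, hxy]
  set p := k (i, 0) with hp
  set p' := k (i, 1) with hp'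
  set q : Fin b × Fin 2 := (p.1, if p.2 = 0 then 1 else 0) with hq
  have hqp : q ≠ p := by
    intro h
    have := congrArg Prod.snd h
    rcases mk_snd_two p with h2 | h2 <;> simp [hq, h2] at this
  have hqp' : q ≠ p' := fun h => hi (congrArg Prod.fst h : q.1 = p'.1)
  -- a second fibre avoiding the preimage of `q`
  obtain ⟨j, hji, hjq⟩ := exists_ne_ne_fin (by omega : 3 ≤ b) i (k.symm q).1
  set r := k (j, 0) with hr
  set s := k (j, 1) with hs
  have hrq : r ≠ q := fun h => hjq (by rw [← h, hr, Equiv.symm_apply_apply])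
  have hsq : s ≠ q := fun h => hjq (by rw [← h, hs, Equiv.symm_apply_apply])
  -- a fibre away from everything
  obtain ⟨c, hc⟩ : (({p.1, p'.1, r.1, s.1} : Finset (Fin b))ᶜ).Nonempty := by
    rw [← Finset.card_pos, Finset.card_compl, Fintype.card_fin]
    have := Finset.card_insert_le p.1 ({p'.1, r.1, s.1} : Finset (Fin b))
    have := Finset.card_insert_le p'.1 ({r.1, s.1} : Finset (Fin b))
    have := Finset.card_insert_le r.1 ({s.1} : Finset (Fin b))
    simp at this
    omega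
  simp only [Finset.mem_compl, Finset.mem_insert, Finset.mem_singleton, not_or] at hc
  obtain ⟨hc1, hc2, hc3, hc4⟩ := hc
  have hpq : p ≠ q := hqp.symm
  have hcq : ∀ u : Fin 2, (c, u) ≠ q := fun u h => hc1 (congrArg Prod.fst h)
  have hij : i ≠ j := hji.symm
  let D : Equiv.Perm (Fin b × Fin 2) := Equiv.swap p q * Equiv.swap (c, 0) (c, 1)
  let D' : Equiv.Perm (Fin b × Fin 2) := Equiv.swap p p' * Equiv.swap r s
  have hD : D ∈ K := by
    refine hW ⟨(W b 2).mul_mem ?_ (sw_mem c 0 1), ?_⟩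
    · have : Equiv.swap p q = sw p.1 p.2 q.2 := rfl
      rw [this]; exact sw_mem _ _ _
    · simp [D, Equiv.Perm.mem_alternatingGroup, Equiv.Perm.sign_swap hpq]
  have hD' : D' ∈ K := by
    have h1 : sw i (0 : Fin 2) 1 * sw j 0 1 ∈ K := hW ⟨(W b 2).mul_mem (sw_mem _ _ _) (sw_mem _ _ _), by
      simp [Equiv.Perm.mem_alternatingGroup, sign_sw]⟩
    have h2 : D' = k * (sw i (0 : Fin 2) 1 * sw j 0 1) * k⁻¹ := by
      simp only [D', hp, hp', hr, hs, sw, Equiv.swap_apply_apply]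
      group
    rw [h2]
    exact K.mul_mem (K.mul_mem hk h1) (K.inv_mem hk)
  have hrp : r ≠ p := fun h => hji (congrArg Prod.fst (k.injective h))
  have hrp' : r ≠ p' := fun h => hji (congrArg Prod.fst (k.injective h))
  have hsp : s ≠ p := fun h => hji (congrArg Prod.fst (k.injective h))
  have hsp' : s ≠ p' := fun h => hji (congrArg Prod.fst (k.injective h))
  have hrs : r ≠ s := fun h => by simpa using congrArg Prod.snd (k.injective h)
  have hpp' : p ≠ p' := fun h => hi (congrArg Prod.fst h)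
  have hcp : ∀ u : Fin 2, (c, u) ≠ p ∧ (c, u) ≠ p' ∧ (c, u) ≠ r ∧ (c, u) ≠ s := fun u =>
    ⟨fun h => hc1 (congrArg Prod.fst h), fun h => hc2 (congrArg Prod.fst h), fun h => hc3 (congrArg Prod.fst h),
      fun h => hc4 (congrArg Prod.fst h)⟩
  refine ⟨(D * D') * (D * D'), K.mul_mem (K.mul_mem hD hD') (K.mul_mem hD hD'), ?_⟩
  have h3 : (D * D') * (D * D') =
      (Equiv.swap p q * Equiv.swap p p') * (Equiv.swap p q * Equiv.swap p p') := by
    obtain ⟨c0p, c0p', c0r, c0s⟩ := hcp 0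
    obtain ⟨c1p, c1p', c1r, c1s⟩ := hcp 1
    have com : ∀ u v u' v' : Fin b × Fin 2, u ≠ u' → u ≠ v' → v ≠ u' → v ≠ v' →
        Commute (Equiv.swap u v) (Equiv.swap u' v') := fun u v u' v' a1 a2 a3 a4 => by
      rw [Commute, SemiconjBy, Equiv.mul_swap_eq_swap_mul, Equiv.swap_apply_of_ne_of_ne a1.symm a3.symm,
        Equiv.swap_apply_of_ne_of_ne a2.symm a4.symm]
    have eSC := com p q (c, 0) (c, 1) c0p.symm c1p.symm (hcq 0).symm (hcq 1).symm
    have ePC := com p p' (c, 0) (c, 1) c0p.symm c1p.symm c0p'.symm c1p'.symm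
    have eSR := com p q r s hrp.symm hsp.symm hrq.symm hsq.symm
    have ePR := com p p' r s hrp.symm hsp.symm hrp'.symm hsp'.symm
    have eCR := com (c, 0) (c, 1) r s c0r c0s c1r c1s
    set S := Equiv.swap p q
    set S' := Equiv.swap p p'
    set C := Equiv.swap ((c, 0) : Fin b × Fin 2) (c, 1)
    set R := Equiv.swap r s
    have hXY : Commute (S * S') (C * R) :=
      Commute.mul_left (eSC.mul_right eSR) (ePC.mul_right ePR)
    have e1 : D * D' = (S * S') * (C * R) := by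
      show S * C * (S' * R) = _
      rw [mul_assoc S C, ← mul_assoc C S', ← ePC.eq]
      simp only [mul_assoc]
    have e2 : C * R * (C * R) = 1 := by
      rw [mul_assoc C R, ← mul_assoc R C, ← eCR.eq, mul_assoc C R R, ← mul_assoc C C]
      simp [C, R]
    rw [e1, mul_assoc, ← mul_assoc (C * R), ← hXY.eq, mul_assoc (S * S'), e2, mul_one]
  rw [h3]
  have h4 : (Equiv.swap p q * Equiv.swap p p').IsThreeCycle :=
    Equiv.Perm.isThreeCycle_swap_mul_swap_same hpq hpp' hqp'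
  exact h4.isThreeCycle_sq

/-- Overgroups of the even part of the partition stabiliser. -/
theorem le_W_or_alt_le (ha : 2 ≤ a) (hb : 2 ≤ b) (h8 : b * a ≠ 8)
    (K : Subgroup (Equiv.Perm (Fin b × Fin a))) (hW : W b a ⊓ alternatingGroup (Fin b × Fin a) ≤ K)
    (hK : K ≤ alternatingGroup (Fin b × Fin a)) :
    K ≤ W b a ∨ alternatingGroup (Fin b × Fin a) ≤ K := by
  classical
  by_cases hsmall : (b = 2 ∧ a = 2) ∨ (b = 3 ∧ a = 2)
  · exact le_W_or_alt_le_small hsmall K hW hK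
  by_cases hKW : K ≤ W b a
  · exact Or.inl hKW
  right
  have hprim := isPreprimitive_of_W_le ha hb (fun h => hsmall (Or.inl ⟨h.2, h.1⟩)) K hW hKW
  by_cases h3 : 3 ≤ a
  · let i : Fin b := ⟨0, by omega⟩
    have hcyc : (sw i (⟨0, by omega⟩ : Fin a) ⟨1, by omega⟩ * sw i ⟨0, by omega⟩ ⟨2, by omega⟩).IsThreeCycle :=
      Equiv.Perm.isThreeCycle_swap_mul_swap_same (by simp) (by simp) (by simp)
    refine Equiv.Perm.alternatingGroup_le_of_isPreprimitive_of_isThreeCycle_mem hprim hcyc (hW ⟨?_, ?_⟩)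
    · exact (W b a).mul_mem (sw_mem _ _ _) (sw_mem _ _ _)
    · exact hcyc.mem_alternatingGroup
  · obtain rfl : a = 2 := by omega
    obtain ⟨t, ht, ht3⟩ := exists_threeCycle_pairs (by omega) K hW hKW
    exact Equiv.Perm.alternatingGroup_le_of_isPreprimitive_of_isThreeCycle_mem hprim ht3 ht

/-- The even stabiliser of a uniform partition is maximal in the alternating group. -/
theorem isCoatom_W_alt (ha : 2 ≤ a) (hb : 2 ≤ b) (h8 : b * a ≠ 8) :
    IsCoatom ((W b a ⊓ alternatingGroup (Fin b × Fin a)).subgroupOf (alternatingGroup (Fin b × Fin a))) := by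
  set A := alternatingGroup (Fin b × Fin a)
  refine ⟨?_, fun K hK => ?_⟩
  · obtain ⟨g, hgA, hgW⟩ := exists_odd_not ha hb
    intro h
    exact hgW (Subgroup.subgroupOf_eq_top.1 h hgA).1
  · have hW : W b a ⊓ A ≤ K.map A.subtype := by
      have := Subgroup.map_mono (f := A.subtype) hK.le
      rwa [Subgroup.map_subgroupOf_eq_of_le inf_le_right] at this
    rcases le_W_or_alt_le ha hb h8 _ hW (Subgroup.map_subtype_le K) with h | h
    · exfalso
      refine hK.not_ge fun x hx => ?_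
      exact ⟨h ⟨x, hx, rfl⟩, x.2⟩
    · rw [eq_top_iff]
      intro x _
      obtain ⟨y, hy, hyx⟩ := h x.2
      rwa [← Subtype.ext hyx]

/-- A uniform labelling is, up to a bijection, the standard partition. -/
theorem exists_transport {Ω : Type*} [Finite Ω] {a b : ℕ} (f : Ω → Fin b)
    (hf : ∀ i : Fin b, Nat.card {x : Ω // f x = i} = a) :
    ∃ e : Ω ≃ Fin b × Fin a, ∀ x, (e x).1 = f x := by
  refine ⟨((Equiv.sigmaFiberEquiv f).symm.trans (Equiv.sigmaCongrRight fun i =>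
    Finite.equivFinOfCardEq (hf i))).trans (Equiv.sigmaEquivProd _ _), fun x => rfl⟩

theorem setOf_eq_map {Ω : Type*} {a b : ℕ} (f : Ω → Fin b) (e : Ω ≃ Fin b × Fin a) (he : ∀ x, (e x).1 = f x) :
    Subgroup.closure {g : Equiv.Perm Ω | ∀ x y : Ω, f x = f y ↔ f (g x) = f (g y)} =
      (W b a).comap e.permCongrHom.toMonoidHom := by
  rw [← Subgroup.closure_eq ((W b a).comap e.permCongrHom.toMonoidHom)]
  congr 1
  ext g
  simp only [Set.mem_ofPred_eq, SetLike.mem_coe, Subgroup.mem_comap, mem_W, MulEquiv.coe_toMonoidHom,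
    Equiv.permCongrHom_coe, Equiv.permCongr_apply]
  constructor
  · intro h x y
    have := h (e.symm x) (e.symm y)
    simpa [← he] using this
  · intro h x y
    have := h (e x) (e y)
    simpa [← he] using this

end Cfsg.Agent.Partition
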